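import Groth.Agent.GrpOmega.Shear
import Groth.Agent.EtLC12.AssocUnit
import Groth.Agent.H23.PullPush
import Groth.Agent.H23.RigidGamma
import Groth.Agent.H23.MulEtale
import Groth.Agent.Lib.GammaDescent
import Groth.Agent.KFlatLib.Perfect.LocFree
import Groth.Agent.S5018
import Groth.Agent.S1488

/-!
Differentials of abelian schemes are invariant.
-/

noncomputable section

set_option autoImplicit false
set_option linter.style.haveILetI false
set_option linter.unusedSectionVars false
set_option backward.isDefEq.respectTransparency false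
set_option backward.isDefEq.respectTransparency.types false
set_option maxHeartbeats 1000000
set_option synthInstance.maxHeartbeats 400000

universe u

open CategoryTheory CategoryTheory.Limits AlgebraicGeometry MonoidalCategory CartesianMonoidalCategory MonObj
open TopologicalSpace Opposite

namespace Groth.Agent.AbOmega

open EtLC12.AssocUnit

/-- on the image of a section, pulled back sections give everything -/
theorem bijective_usec_section {X S : Scheme.{u}} (f : X ⟶ S) (e : S ⟶ X) (he : e ≫ f = 𝟙 S) (E : S.Modules)
    (hu : Function.Bijective (usec f E ⊤)) :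
    Function.Bijective (usec e ((Scheme.Modules.pullback f).obj E) ⊤) := by
  let ψ : Γ((Scheme.Modules.pullback e).obj ((Scheme.Modules.pullback f).obj E), ⊤) → _ :=
    fun y => ((Scheme.Modules.pullbackComp e f).hom.app E).app (e ⁻¹ᵁ (f ⁻¹ᵁ ⊤)) y
  have hψ : Function.Bijective ψ := by
    haveI := Scheme.Modules.Hom.isIso_iff_isIso_app.1
      (inferInstance : IsIso ((Scheme.Modules.pullbackComp e f).hom.app E)) (e ⁻¹ᵁ (f ⁻¹ᵁ ⊤))
    exact ConcreteCategory.bijective_of_isIso (C := Ab) (((Scheme.Modules.pullbackComp e f).hom.app E).app _)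
  have key : ∀ x, ψ (usec e _ ⊤ (usec f E ⊤ x)) = usec (e ≫ f) E ⊤ x := fun x => usec_comp e f E ⊤ x
  haveI : IsIso (e ≫ f) := by rw [he]; infer_instance
  have hc : Function.Bijective (usec (e ≫ f) E ⊤) :=
    bijective_usec_of_isOpenImmersion (e ≫ f) E ⊤ (by rw [Scheme.Hom.opensRange_of_isIso])
  have h2 : Function.Bijective (ψ ∘ usec e _ ⊤ ∘ usec f E ⊤) := by
    rw [show ψ ∘ usec e _ ⊤ ∘ usec f E ⊤ = usec (e ≫ f) E ⊤ from funext key]
    exact hc
  exact (Function.Bijective.of_comp_iff _ hu).1 ((Function.Bijective.of_comp_iff' hψ _).1 h2)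

variable {S : Scheme.{u}} (A : Over S) [GrpObj A]
  [IsProper A.hom] [Flat A.hom] [LocallyOfFinitePresentation A.hom] [GeometricallyReduced A.hom]
  [GeometricallyConnected A.hom]

/-- functions on the family are functions on the base -/
theorem bijective_app (U : S.Opens) : Function.Bijective (A.hom.app U) := by
  haveI : Surjective A.hom := ⟨fun s => ⟨η[A].left s, by
    show (η[A].left ≫ A.hom) s = s
    rw [Over.w η[A]]; rfl⟩⟩
  exact GammaDescent.bijective_app A.hom (H23.RigidGamma.constFibres A.hom) U

/-- the conormal sheaf of the unit section is finite locally free -/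
theorem isFinLocFree : FlatMod.IsFinLocFree ((Scheme.Modules.pullback η[A].left).obj (Omega.sheaf A.hom)) := by
  haveI : Smooth A.hom := H23.MulEtale.smooth
  exact KFlatLib.isFinLocFree_pullback η[A].left
    (S5018.result A.hom ((S1488.result A.hom).1 inferInstance).2 _ _ (OmegaUniv.isUniversal_dOmega A.hom))

/-- the unit is an isomorphism -/
theorem isIso_unit : IsIso ((Scheme.Modules.pullbackPushforwardAdjunction A.hom).unit.app
    ((Scheme.Modules.pullback η[A].left).obj (Omega.sheaf A.hom))) :=
  H23.PullPush.isIso_unit_of_isFinLocFree A.hom (bijective_app A) _ (isFinLocFree A)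

/-- the direct image of the differentials is the conormal sheaf -/
theorem nonempty_push_iso : Nonempty ((Coh.push A.hom).obj (Omega.sheaf A.hom) ≅
    (Scheme.Modules.pullback η[A].left).obj (Omega.sheaf A.hom)) := by
  obtain ⟨a⟩ := GrpOmega.nonempty_omega_iso A
  haveI := isIso_unit A
  exact ⟨(Scheme.Modules.pushforward A.hom).mapIso a.symm ≪≫
    (asIso ((Scheme.Modules.pullbackPushforwardAdjunction A.hom).unit.app _)).symm⟩

/-- global differentials are invariant -/
theorem bijective_restrict : Function.Bijective (usec η[A].left (Omega.sheaf A.hom) ⊤) := by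
  obtain ⟨a⟩ := GrpOmega.nonempty_omega_iso A
  let E := (Scheme.Modules.pullback η[A].left).obj (Omega.sheaf A.hom)
  haveI := isIso_unit A
  have hu : Function.Bijective (usec A.hom E ⊤) := by
    haveI := Scheme.Modules.Hom.isIso_iff_isIso_app.1
      (inferInstance : IsIso ((Scheme.Modules.pullbackPushforwardAdjunction A.hom).unit.app E)) ⊤
    exact ConcreteCategory.bijective_of_isIso (C := Ab) (((Scheme.Modules.pullbackPushforwardAdjunction A.hom).unit.app E).app ⊤)
  have hb := bijective_usec_section A.hom η[A].left (Over.w η[A]) E hu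
  have hnat : ∀ x, usec η[A].left (Omega.sheaf A.hom) ⊤ (a.hom.app ⊤ x) =
      ((Scheme.Modules.pullback η[A].left).map a.hom).app _ (usec η[A].left _ ⊤ x) := fun x => by
    have h := (Scheme.Modules.pullbackPushforwardAdjunction η[A].left).unit.naturality a.hom
    exact congrArg (fun t : (Scheme.Modules.pullback A.hom).obj E ⟶ (Scheme.Modules.pushforward η[A].left).obj _ =>
      t.app ⊤ x) h
  haveI := Scheme.Modules.Hom.isIso_iff_isIso_app.1 (inferInstance : IsIso a.hom) ⊤
  haveI := Scheme.Modules.Hom.isIso_iff_isIso_app.1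
    (inferInstance : IsIso ((Scheme.Modules.pullback η[A].left).map a.hom)) (η[A].left ⁻¹ᵁ ⊤)
  have ha : Function.Bijective (a.hom.app ⊤) := ConcreteCategory.bijective_of_isIso (C := Ab) _
  have ha' : Function.Bijective (((Scheme.Modules.pullback η[A].left).map a.hom).app (η[A].left ⁻¹ᵁ ⊤)) :=
    ConcreteCategory.bijective_of_isIso (C := Ab) _
  refine (Function.Bijective.of_comp_iff _ ha).1 ?_
  rw [show usec η[A].left (Omega.sheaf A.hom) ⊤ ∘ a.hom.app ⊤ =
      ((Scheme.Modules.pullback η[A].left).map a.hom).app _ ∘ usec η[A].left _ ⊤ from funext hnat]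
  exact ha'.comp hb

end Groth.Agent.AbOmega

end
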